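import Cfsg.Agent.H477.HC.Rk3Chars_m3
import Cfsg.Agent.H316.HT.Defs
import Cfsg.Agent.H788.RatB.Rat_m3
import Cfsg.Agent.H806.SB.RuThree
import Cfsg.Agent.H116.RatB0.StB0
import Cfsg.Agent.OddHalf.Table.OutRu
import Cfsg.Agent.RuLat.Main
import Cfsg.Agent.H417.GU.Shift_m3
import Cfsg.Agent.FastGrp
import Cfsg.Agent.Prune
set_option linter.all false

section
prune_inst 0x7f00000000000000000000000000000000000000000000000000000000000000000000000000000000000000000000000000000000000000000000000000000000000000000000000000000000000000003fffffffffffffffffffffffffffbeffbdffffffff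

-- part: H160/HT/Mu
section
set_option linter.all false
open scoped Cfsg.Agent.FastGrp

/-!
# The characters `μ₁`, `μ₂`, `ψ`, `y` of the trace lemma for classical groups (S4933, box MU; helper160)

Setting of `Cfsg.Agent.H749.Two.Cmp` : `W₀` totally singular, `j : X → V` an isometric embedding of `F'` onto a complement
of `W₀` in `W₀ᗮ`, `ρ : stabW F.iso.subtype W₀ →* F'.iso` the homomorphism of `Cmp.exists_rho`, `Lam = W₀ ⊔ Z'.map j`.
-/

set_option autoImplicit false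

open scoped ComplexConjugate
open Cfsg

namespace Cfsg.Agent.H160.HT.Mu

open Cfsg.Agent.OddOrderCharacters.Clifford Cfsg.Agent.Characters MulAction Module Cfsg.Agent.H53.HC
open Cfsg.Agent.H477.HC Cfsg.Agent.H749.Two

universe u v w

/-! ### Surjective homomorphisms -/

section Abs

theorem classInner_surj {H : Type*} {A : Type*} [Group H] [Group A] [Fintype H] [Fintype A] (f : H →* A)
    (hf : Function.Surjective f) (u v : A → ℂ) :
    classInner (fun h => u (f h)) (fun h => v (f h)) = classInner u v := by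
  rw [Core.classInner_def, Core.classInner_def, sum_comp_hom f hf (fun a => u a * conj (v a)), ← mul_assoc]
  congr 1
  have h1 : Nat.card H = Nat.card f.ker * Nat.card A := by
    rw [Subgroup.card_eq_card_quotient_mul_card_subgroup f.ker, mul_comm]
    congr 1
    exact Nat.card_congr (QuotientGroup.quotientKerEquivOfSurjective f hf).toEquiv
  have h2 : (Nat.card f.ker : ℂ) ≠ 0 := Core.card_ne_zero_complex
  have h3 : (Nat.card A : ℂ) ≠ 0 := Core.card_ne_zero_complex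
  rw [h1, Nat.cast_mul]
  field_simp

theorem card_surj {H : Type*} {A : Type*} [Group H] [Group A] (f : H →* A) (hf : Function.Surjective f) :
    Nat.card H = Nat.card f.ker * Nat.card A := by
  rw [Subgroup.card_eq_card_quotient_mul_card_subgroup f.ker, mul_comm]
  congr 1
  exact Nat.card_congr (QuotientGroup.quotientKerEquivOfSurjective f hf).toEquiv

theorem classInner_prod {A : Type*} {B : Type*} [Group A] [Group B] [Fintype A] [Fintype B] (u u' : A → ℂ)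
    (v v' : B → ℂ) :
    classInner (fun p : A × B => u p.1 * v p.2) (fun p => u' p.1 * v' p.2) = classInner u u' * classInner v v' := by
  rw [Core.classInner_def, Core.classInner_def, Core.classInner_def, Nat.card_prod, Nat.cast_mul, mul_inv]
  have e : ∑ p : A × B, u p.1 * v p.2 * conj (u' p.1 * v' p.2) =
      (∑ a : A, u a * conj (u' a)) * ∑ b : B, v b * conj (v' b) := by
    rw [Fintype.sum_mul_sum, Fintype.sum_prod_type]
    refine Finset.sum_congr rfl fun a _ => Finset.sum_congr rfl fun b _ => ?_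
    rw [map_mul]
    ring
  rw [e]
  ring

theorem classInner_joint {H : Type*} {A : Type*} {B : Type*} [Group H] [Group A] [Group B] [Fintype H] [Fintype A]
    [Fintype B] (f : H →* A) (r : H →* B) (hfr : ∀ a b, ∃ h, f h = a ∧ r h = b) (u u' : A → ℂ) (v v' : B → ℂ) :
    classInner (fun h => u (f h) * v (r h)) (fun h => u' (f h) * v' (r h)) = classInner u u' * classInner v v' := by
  rw [← classInner_prod]
  exact classInner_surj (f.prod r) (fun p => by
    obtain ⟨h, h1, h2⟩ := hfr p.1 p.2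
    exact ⟨h, Prod.ext h1 h2⟩) (fun p : A × B => u p.1 * v p.2) (fun p : A × B => u' p.1 * v' p.2)

theorem isIrr_joint {H : Type*} {A : Type*} {B : Type*} [Group H] [Group A] [Group B] [Finite H]
    (f : H →* A) (r : H →* B) (hfr : ∀ a b, ∃ h, f h = a ∧ r h = b) {c : A → ℂ} {χ : B → ℂ}
    (hc : IsIrrCharacter A c) (hχ : IsIrrCharacter B χ) : IsIrrCharacter H (fun h => c (f h) * χ (r h)) := by
  classical
  have hf : Function.Surjective f := fun a => by
    obtain ⟨h, h1, -⟩ := hfr a 1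
    exact ⟨h, h1⟩
  have hr : Function.Surjective r := fun b => by
    obtain ⟨h, -, h1⟩ := hfr 1 b
    exact ⟨h, h1⟩
  have := Finite.of_surjective f hf
  have := Finite.of_surjective r hr
  let _ := Fintype.ofFinite H
  let _ := Fintype.ofFinite A
  let _ := Fintype.ofFinite B
  have e1 : (fun h => c (f h) * χ (r h)) = (c ∘ f) * (χ ∘ r) := rfl
  rw [e1]
  apply Core.isIrr_of_classInner_self (Core.isCharacter_mul (Core.isIrr_isCharacter (Core.isIrr_comp f hf hc))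
    (Core.isIrr_isCharacter (Core.isIrr_comp r hr hχ)))
  rw [← e1, classInner_joint f r hfr, Core.classInner_irr_self hc, Core.classInner_irr_self hχ, mul_one]

end Abs

/-! ### One side -/

section

variable {K : Type u} [Field K] {V : Type v} [AddCommGroup V] [Module K V] {X : Type w} [AddCommGroup X] [Module K X]
variable {F : CForm K V} {F' : CForm K X} {j : X →ₗ[K] V} {W₀ : Submodule K V}

theorem apply_mem {U : Submodule K V} {g : F.iso} (hg : g ∈ stabW F.iso.subtype U) {v : V} (hv : v ∈ U) :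
    (g : V ≃ₗ[K] V) v ∈ U := by
  have h1 : U.map (F.iso.subtype g : V →ₗ[K] V) = U := hg
  have : F.iso.subtype g v ∈ U.map (F.iso.subtype g : V →ₗ[K] V) := ⟨v, hv, rfl⟩
  rwa [h1] at this

theorem finite_iso' (F : CForm K V) [Finite V] : Finite F.iso := by
  have : Finite (V ≃ₗ[K] V) := Finite.of_injective (fun e : V ≃ₗ[K] V => (e : V → V)) DFunLike.coe_injective
  infer_instance

/-- `j X` meets `W₀` in `0` -/
theorem eq_of_sub_mem (h : Cmp F F' j W₀) {x y : X} (hxy : j x - j y ∈ W₀) : x = y := by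
  have h1 : x - y = 0 := by
    refine F'.nondeg _ fun z => ?_
    rw [← h.jB, map_sub]
    exact F.B_eq_zero (h.j1 z _ hxy)
  exact sub_eq_zero.1 h1

theorem inf_map_eq_bot (h : Cmp F F' j W₀) (Z' : Submodule K X) : W₀ ⊓ Z'.map j = ⊥ := by
  rw [Submodule.eq_bot_iff]
  rintro _ ⟨hw, z, -, rfl⟩
  have h1 : z = 0 := eq_of_sub_mem h (x := z) (y := 0) (by rw [map_zero, sub_zero]; exact hw)
  rw [h1, map_zero]

variable {ρ : stabW F.iso.subtype W₀ →* F'.iso}

/-- **the stabiliser of `Lam = W₀ ⊔ Z'.map j` in that of `W₀`** -/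
theorem mem_stab_iff [FiniteDimensional K V] [FiniteDimensional K X] (h : Cmp F F' j W₀)
    (hρ : ∀ (g : stabW F.iso.subtype W₀) x, ((g : F.iso) : V ≃ₗ[K] V) (j x) - j ((ρ g : X ≃ₗ[K] X) x) ∈ W₀)
    (Z' : Submodule K X) (g : stabW F.iso.subtype W₀) :
    (g : F.iso) ∈ stabW F.iso.subtype (W₀ ⊔ Z'.map j) ↔ ρ g ∈ stabW F'.iso.subtype Z' := by
  constructor
  · intro hg
    apply map_eq_of_le
    intro z hz
    change (ρ g : X ≃ₗ[K] X) z ∈ Z'
    have h1 : ((g : F.iso) : V ≃ₗ[K] V) (j z) ∈ W₀ ⊔ Z'.map j :=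
      apply_mem hg (Submodule.mem_sup_right ⟨z, hz, rfl⟩)
    obtain ⟨w, hw, _, ⟨z', hz', rfl⟩, h2⟩ := Submodule.mem_sup.1 h1
    have h3 : j ((ρ g : X ≃ₗ[K] X) z) - j z' ∈ W₀ := by
      have h4 := W₀.sub_mem hw (hρ g z)
      have h5 : w - (((g : F.iso) : V ≃ₗ[K] V) (j z) - j ((ρ g : X ≃ₗ[K] X) z)) =
          j ((ρ g : X ≃ₗ[K] X) z) - j z' := by
        rw [← h2]; abel
      rwa [h5] at h4
    rw [eq_of_sub_mem h h3]
    exact hz'
  · intro hg
    apply map_eq_of_le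
    intro v hv
    obtain ⟨w, hw, _, ⟨z, hz, rfl⟩, rfl⟩ := Submodule.mem_sup.1 hv
    change ((g : F.iso) : V ≃ₗ[K] V) (w + j z) ∈ _
    have h1 : ((g : F.iso) : V ≃ₗ[K] V) (w + j z) = (((g : F.iso) : V ≃ₗ[K] V) w +
        (((g : F.iso) : V ≃ₗ[K] V) (j z) - j ((ρ g : X ≃ₗ[K] X) z))) + j ((ρ g : X ≃ₗ[K] X) z) := by
      rw [map_add]; abel
    rw [h1]
    exact Submodule.add_mem _ (Submodule.mem_sup_left (W₀.add_mem (apply_mem g.2 hw) (hρ g z)))
      (Submodule.mem_sup_right ⟨_, apply_mem hg hz, rfl⟩)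

variable {k : ℕ} {c : GL (Fin k) K → ℂ}

/-- the homomorphism to `GL k K` -/
noncomputable def fW (F : CForm K V) {W₀ : Submodule K V} (b : Basis (Fin k) K W₀) :
    stabW F.iso.subtype W₀ →* GL (Fin k) K := (glE b).toMonoidHom.comp (resHom F.iso.subtype W₀)

theorem flagTerm_fW (hc : IsClassFunction _ c) (b : Basis (Fin k) K W₀) (g : stabW F.iso.subtype W₀) :
    flagTerm F.iso.subtype c (g : F.iso) W₀ = c (fW F b g) := by
  rw [flagTerm_of F.iso.subtype c g.2, cl_eq hc b]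
  rfl

/-- `(fW, ρ)` is onto -/
theorem joint (b : Basis (Fin k) K W₀)
    (hρ3 : ∀ (a : W₀ ≃ₗ[K] W₀) (b : F'.iso), ∃ g : stabW F.iso.subtype W₀, ρ g = b ∧
      ∀ w : W₀, ((g : F.iso) : V ≃ₗ[K] V) w = a w) (A : GL (Fin k) K) (B : F'.iso) :
    ∃ g : stabW F.iso.subtype W₀, fW F b g = A ∧ ρ g = B := by
  obtain ⟨a, rfl⟩ := (glE b).surjective A
  obtain ⟨g, hg1, hg2⟩ := hρ3 a B
  refine ⟨g, ?_, hg1⟩
  change glE b (res (F.iso.subtype g) W₀ _) = glE b a
  congr 1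
  ext w
  exact hg2 w

/-- (A) `ψ = c ⊗ χ` is irreducible -/
theorem isIrr_psi [Finite V] (hc : IsIrrCharacter _ c) (b : Basis (Fin k) K W₀)
    (hρ3 : ∀ (a : W₀ ≃ₗ[K] W₀) (b : F'.iso), ∃ g : stabW F.iso.subtype W₀, ρ g = b ∧
      ∀ w : W₀, ((g : F.iso) : V ≃ₗ[K] V) w = a w) {χ : F'.iso → ℂ} (hχ : IsIrrCharacter _ χ) :
    IsIrrCharacter (stabW F.iso.subtype W₀) (fun g => flagTerm F.iso.subtype c (g : F.iso) W₀ * χ (ρ g)) := by
  have := finite_iso' F
  have e : (fun g : stabW F.iso.subtype W₀ => flagTerm F.iso.subtype c (g : F.iso) W₀ * χ (ρ g)) =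
      fun g => c (fW F b g) * χ (ρ g) := by
    funext g
    rw [flagTerm_fW (Core.isIrr_isClassFunction hc) b]
  rw [e]
  exact isIrr_joint (fW F b) ρ (joint b hρ3) hc hχ

/-- `y = Y ∘ ρ` is irreducible -/
theorem isIrr_comp_rho
    (hρ3 : ∀ (a : W₀ ≃ₗ[K] W₀) (b : F'.iso), ∃ g : stabW F.iso.subtype W₀, ρ g = b ∧
      ∀ w : W₀, ((g : F.iso) : V ≃ₗ[K] V) w = a w) {χ : F'.iso → ℂ} (hχ : IsIrrCharacter _ χ) :
    IsIrrCharacter (stabW F.iso.subtype W₀) (fun g => χ (ρ g)) :=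
  Core.isIrr_comp ρ (fun b => by
    obtain ⟨g, hg, -⟩ := hρ3 1 b
    exact ⟨g, hg⟩) hχ

variable {Z' : Submodule K X} {Lam : Submodule K V}

/-- the homomorphism of `P₁ = stabW W₀ ⊓ stabW Lam` to the stabiliser of `Z'` -/
def rP [FiniteDimensional K V] [FiniteDimensional K X] (h : Cmp F F' j W₀)
    (hρ : ∀ (g : stabW F.iso.subtype W₀) x, ((g : F.iso) : V ≃ₗ[K] V) (j x) - j ((ρ g : X ≃ₗ[K] X) x) ∈ W₀)
    (hLam : Lam = W₀ ⊔ Z'.map j) :
    (stabW F.iso.subtype W₀ ⊓ stabW F.iso.subtype Lam : Subgroup F.iso) →* stabW F'.iso.subtype Z' :=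
  (ρ.comp (Subgroup.inclusion inf_le_left)).codRestrict _ fun g =>
    (mem_stab_iff h hρ Z' (Subgroup.inclusion inf_le_left g)).1 (hLam ▸ g.2.2)

/-- `P₁ → GL(W₀) × stabW Z'` is onto -/
theorem jointP [FiniteDimensional K V] [FiniteDimensional K X] (h : Cmp F F' j W₀)
    (hρ : ∀ (g : stabW F.iso.subtype W₀) x, ((g : F.iso) : V ≃ₗ[K] V) (j x) - j ((ρ g : X ≃ₗ[K] X) x) ∈ W₀)
    (b : Basis (Fin k) K W₀)
    (hρ3 : ∀ (a : W₀ ≃ₗ[K] W₀) (b : F'.iso), ∃ g : stabW F.iso.subtype W₀, ρ g = b ∧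
      ∀ w : W₀, ((g : F.iso) : V ≃ₗ[K] V) w = a w) (hLam : Lam = W₀ ⊔ Z'.map j) (A : GL (Fin k) K)
    (B : stabW F'.iso.subtype Z') :
    ∃ g : (stabW F.iso.subtype W₀ ⊓ stabW F.iso.subtype Lam : Subgroup F.iso),
      ((fW F b).comp (Subgroup.inclusion inf_le_left)) g = A ∧ rP h hρ hLam g = B := by
  obtain ⟨g, hg1, hg2⟩ := joint b hρ3 A B
  have h1 : (g : F.iso) ∈ stabW F.iso.subtype Lam := by
    rw [hLam, mem_stab_iff h hρ, hg2]
    exact B.2
  exact ⟨⟨g, g.2, h1⟩, hg1, Subtype.ext hg2⟩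

/-- (A) `μ₁` is irreducible on `P₁` -/
theorem isIrr_mu [FiniteDimensional K V] [FiniteDimensional K X] [Finite V] (h : Cmp F F' j W₀)
    (hρ : ∀ (g : stabW F.iso.subtype W₀) x, ((g : F.iso) : V ≃ₗ[K] V) (j x) - j ((ρ g : X ≃ₗ[K] X) x) ∈ W₀)
    (hc : IsIrrCharacter _ c) (b : Basis (Fin k) K W₀)
    (hρ3 : ∀ (a : W₀ ≃ₗ[K] W₀) (b : F'.iso), ∃ g : stabW F.iso.subtype W₀, ρ g = b ∧
      ∀ w : W₀, ((g : F.iso) : V ≃ₗ[K] V) w = a w) (hLam : Lam = W₀ ⊔ Z'.map j) :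
    IsIrrCharacter (stabW F.iso.subtype W₀ ⊓ stabW F.iso.subtype Lam : Subgroup F.iso)
      (fun g => flagTerm F.iso.subtype c (g : F.iso) W₀) := by
  have e : (fun g : (stabW F.iso.subtype W₀ ⊓ stabW F.iso.subtype Lam : Subgroup F.iso) =>
      flagTerm F.iso.subtype c (g : F.iso) W₀) = c ∘ ((fW F b).comp (Subgroup.inclusion inf_le_left)) := by
    funext g
    exact flagTerm_fW (Core.isIrr_isClassFunction hc) b (Subgroup.inclusion inf_le_left g)
  rw [e]
  refine Core.isIrr_comp _ (fun A => ?_) hc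
  obtain ⟨g, hg, -⟩ := jointP h hρ b hρ3 hLam A 1
  exact ⟨g, hg⟩

/-- (A) the multiplicity of `μ₁` in `ψ` -/
theorem classInner_psi_mu [FiniteDimensional K V] [FiniteDimensional K X] [Finite V] [Finite X] (h : Cmp F F' j W₀)
    (hρ : ∀ (g : stabW F.iso.subtype W₀) x, ((g : F.iso) : V ≃ₗ[K] V) (j x) - j ((ρ g : X ≃ₗ[K] X) x) ∈ W₀)
    (hc : IsIrrCharacter _ c) (b : Basis (Fin k) K W₀)
    (hρ3 : ∀ (a : W₀ ≃ₗ[K] W₀) (b : F'.iso), ∃ g : stabW F.iso.subtype W₀, ρ g = b ∧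
      ∀ w : W₀, ((g : F.iso) : V ≃ₗ[K] V) w = a w) (hLam : Lam = W₀ ⊔ Z'.map j)
    [Fintype (stabW F.iso.subtype W₀ ⊓ stabW F.iso.subtype Lam : Subgroup F.iso)]
    [Fintype (stabW F'.iso.subtype Z')] (χ : F'.iso → ℂ) :
    classInner (fun g : (stabW F.iso.subtype W₀ ⊓ stabW F.iso.subtype Lam : Subgroup F.iso) =>
        flagTerm F.iso.subtype c (g : F.iso) W₀ * χ (ρ ⟨g, g.2.1⟩))
      (fun g => flagTerm F.iso.subtype c (g : F.iso) W₀) =
    classInner (fun s : stabW F'.iso.subtype Z' => χ s) (fun _ => 1) := by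
  classical
  have hsurj : Function.Surjective ((fW F b).comp (Subgroup.inclusion inf_le_left) :
      (stabW F.iso.subtype W₀ ⊓ stabW F.iso.subtype Lam : Subgroup F.iso) →* GL (Fin k) K) := fun A => by
    obtain ⟨g, hg, -⟩ := jointP h hρ b hρ3 hLam A 1
    exact ⟨g, hg⟩
  have := Finite.of_surjective _ hsurj
  let _ := Fintype.ofFinite (GL (Fin k) K)
  have h1 := classInner_joint ((fW F b).comp (Subgroup.inclusion inf_le_left) :
      (stabW F.iso.subtype W₀ ⊓ stabW F.iso.subtype Lam : Subgroup F.iso) →* GL (Fin k) K) (rP h hρ hLam)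
    (jointP h hρ b hρ3 hLam) c c (fun s => χ s) (fun _ => 1)
  rw [Core.classInner_irr_self hc, one_mul] at h1
  rw [← h1]
  have e : ∀ g : (stabW F.iso.subtype W₀ ⊓ stabW F.iso.subtype Lam : Subgroup F.iso),
      flagTerm F.iso.subtype c (g : F.iso) W₀ =
        c (((fW F b).comp (Subgroup.inclusion inf_le_left) :
          (stabW F.iso.subtype W₀ ⊓ stabW F.iso.subtype Lam : Subgroup F.iso) →* GL (Fin k) K) g) := fun g =>
    flagTerm_fW (Core.isIrr_isClassFunction hc) b (Subgroup.inclusion inf_le_left g)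
  congr 1
  · funext g
    rw [← e]
    rfl
  · funext g
    rw [← e, mul_one]

end

/-! ### The other side -/

section

variable {K : Type u} [Field K] {V : Type v} [AddCommGroup V] [Module K V] {X : Type w} [AddCommGroup X] [Module K X]
variable {F : CForm K V} {F₂ : CForm K X} {j₂ : X →ₗ[K] V} {Z₀ : Submodule K V}
variable {ρ₂ : stabW F.iso.subtype Z₀ →* F₂.iso} {W₂ : Submodule K X} {Lam : Submodule K V}
variable {k : ℕ} {c : GL (Fin k) K → ℂ}

theorem fW_surj [FiniteDimensional K X] (hW₂ : F₂.TS W₂) (b : Basis (Fin k) K W₂) :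
    Function.Surjective (fW F₂ b) := by
  intro A
  obtain ⟨a, rfl⟩ := (glE b).surjective A
  obtain ⟨g, hg⟩ := F₂.exists_levi' hW₂ a
  have hgs : g ∈ stabW F₂.iso.subtype W₂ := map_eq_of_le F₂.iso.subtype fun w hw => by
    change (g : X ≃ₗ[K] X) w ∈ W₂
    rw [hg ⟨w, hw⟩]
    exact (a ⟨w, hw⟩).2
  refine ⟨⟨g, hgs⟩, ?_⟩
  change glE b (res (F₂.iso.subtype g) W₂ _) = glE b a
  congr 1
  ext w
  exact hg w

theorem rP_surj [FiniteDimensional K V] [FiniteDimensional K X] (h₂ : Cmp F F₂ j₂ Z₀)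
    (hρ : ∀ (g : stabW F.iso.subtype Z₀) x, ((g : F.iso) : V ≃ₗ[K] V) (j₂ x) - j₂ ((ρ₂ g : X ≃ₗ[K] X) x) ∈ Z₀)
    (hρ3 : ∀ (a : Z₀ ≃ₗ[K] Z₀) (b : F₂.iso), ∃ g : stabW F.iso.subtype Z₀, ρ₂ g = b ∧
      ∀ w : Z₀, ((g : F.iso) : V ≃ₗ[K] V) w = a w) (hLam : Lam = Z₀ ⊔ W₂.map j₂) :
    Function.Surjective (rP h₂ hρ hLam) := by
  intro B
  obtain ⟨g, hg1, -⟩ := hρ3 1 B
  have h1 : (g : F.iso) ∈ stabW F.iso.subtype Lam := by
    rw [hLam, mem_stab_iff h₂ hρ, hg1]
    exact B.2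
  exact ⟨⟨g, g.2, h1⟩, Subtype.ext hg1⟩

/-- (B) `μ₂` is irreducible on `P₂` -/
theorem isIrr_mu₂ [FiniteDimensional K V] [FiniteDimensional K X] (h₂ : Cmp F F₂ j₂ Z₀)
    (hρ : ∀ (g : stabW F.iso.subtype Z₀) x, ((g : F.iso) : V ≃ₗ[K] V) (j₂ x) - j₂ ((ρ₂ g : X ≃ₗ[K] X) x) ∈ Z₀)
    (hρ3 : ∀ (a : Z₀ ≃ₗ[K] Z₀) (b : F₂.iso), ∃ g : stabW F.iso.subtype Z₀, ρ₂ g = b ∧
      ∀ w : Z₀, ((g : F.iso) : V ≃ₗ[K] V) w = a w) (hW₂ : W₂ ∈ F₂.Om k) (hc : IsIrrCharacter _ c)
    (hLam : Lam = Z₀ ⊔ W₂.map j₂) :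
    IsIrrCharacter (stabW F.iso.subtype Z₀ ⊓ stabW F.iso.subtype Lam : Subgroup F.iso)
      (fun g => flagTerm F₂.iso.subtype c (ρ₂ (Subgroup.inclusion inf_le_left g)) W₂) := by
  let b : Basis (Fin k) K W₂ := finBasisOfFinrankEq K W₂ hW₂.2
  have e : (fun g : (stabW F.iso.subtype Z₀ ⊓ stabW F.iso.subtype Lam : Subgroup F.iso) =>
      flagTerm F₂.iso.subtype c (ρ₂ (Subgroup.inclusion inf_le_left g)) W₂) =
        c ∘ ((fW F₂ b).comp (rP h₂ hρ hLam)) := by
    funext g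
    exact flagTerm_fW (Core.isIrr_isClassFunction hc) b (rP h₂ hρ hLam g)
  have hs : Function.Surjective ((fW F₂ b).comp (rP h₂ hρ hLam)) :=
    Function.Surjective.comp (g := fW F₂ b) (fW_surj hW₂.1 b) (rP_surj h₂ hρ hρ3 hLam)
  rw [e]
  exact Core.isIrr_comp _ hs hc

/-- (B) the multiplicity of `μ₂` in `y = Y ∘ ρ₂` -/
theorem classInner_y_mu₂ [FiniteDimensional K V] [FiniteDimensional K X] (h₂ : Cmp F F₂ j₂ Z₀)
    (hρ : ∀ (g : stabW F.iso.subtype Z₀) x, ((g : F.iso) : V ≃ₗ[K] V) (j₂ x) - j₂ ((ρ₂ g : X ≃ₗ[K] X) x) ∈ Z₀)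
    (hρ3 : ∀ (a : Z₀ ≃ₗ[K] Z₀) (b : F₂.iso), ∃ g : stabW F.iso.subtype Z₀, ρ₂ g = b ∧
      ∀ w : Z₀, ((g : F.iso) : V ≃ₗ[K] V) w = a w)
    (hLam : Lam = Z₀ ⊔ W₂.map j₂)
    [Fintype (stabW F.iso.subtype Z₀ ⊓ stabW F.iso.subtype Lam : Subgroup F.iso)]
    [Fintype (stabW F₂.iso.subtype W₂)] (Y : F₂.iso → ℂ) (c : GL (Fin k) K → ℂ) :
    classInner (fun g : (stabW F.iso.subtype Z₀ ⊓ stabW F.iso.subtype Lam : Subgroup F.iso) =>
        Y (ρ₂ (Subgroup.inclusion inf_le_left g)))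
      (fun g => flagTerm F₂.iso.subtype c (ρ₂ (Subgroup.inclusion inf_le_left g)) W₂) =
    classInner (fun s : stabW F₂.iso.subtype W₂ => Y s) (fun s => flagTerm F₂.iso.subtype c (s : F₂.iso) W₂) :=
  classInner_surj (rP h₂ hρ hLam) (rP_surj h₂ hρ hρ3 hLam) (fun s : stabW F₂.iso.subtype W₂ => Y s)
    (fun s : stabW F₂.iso.subtype W₂ => flagTerm F₂.iso.subtype c (s : F₂.iso) W₂)

/-- (B) the orders -/
theorem card_stab [FiniteDimensional K V] [FiniteDimensional K X] [Finite X] (h₂ : Cmp F F₂ j₂ Z₀)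
    (hρ : ∀ (g : stabW F.iso.subtype Z₀) x, ((g : F.iso) : V ≃ₗ[K] V) (j₂ x) - j₂ ((ρ₂ g : X ≃ₗ[K] X) x) ∈ Z₀)
    (hρ3 : ∀ (a : Z₀ ≃ₗ[K] Z₀) (b : F₂.iso), ∃ g : stabW F.iso.subtype Z₀, ρ₂ g = b ∧
      ∀ w : Z₀, ((g : F.iso) : V ≃ₗ[K] V) w = a w) (hW₂ : W₂ ∈ F₂.Om k) (hLam : Lam = Z₀ ⊔ W₂.map j₂) :
    Nat.card (stabW F.iso.subtype Z₀) =
      Nat.card (stabW F.iso.subtype Z₀ ⊓ stabW F.iso.subtype Lam : Subgroup F.iso) * Nat.card (F₂.Om k) := by
  have e1 := card_surj ρ₂ (fun b => by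
    obtain ⟨g, hg, -⟩ := hρ3 1 b
    exact ⟨g, hg⟩)
  have e2 := card_surj (rP h₂ hρ hLam) (rP_surj h₂ hρ hρ3 hLam)
  have e3 : Nat.card ρ₂.ker = Nat.card (rP h₂ hρ hLam).ker := by
    refine Nat.card_congr ⟨fun g => ⟨⟨g.1.1, g.1.2, ?_⟩, ?_⟩, fun g => ⟨Subgroup.inclusion inf_le_left g.1, ?_⟩,
      fun g => rfl, fun g => rfl⟩
    · change (g.1 : F.iso) ∈ stabW F.iso.subtype Lam
      rw [hLam, mem_stab_iff h₂ hρ, show ρ₂ g.1 = 1 from g.2]
      exact Subgroup.one_mem _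
    · exact Subtype.ext (show ρ₂ g.1 = 1 from g.2)
    · exact congrArg Subtype.val (show rP h₂ hρ hLam g.1 = 1 from g.2)
  rw [e1, e2, F₂.card_iso_eq hW₂, e3]
  ring

end

/-! ### Both sides -/

section

variable {K : Type u} [Field K] {V : Type v} [AddCommGroup V] [Module K V] {X : Type w} [AddCommGroup X] [Module K X]
variable {F : CForm K V} {F₂ : CForm K X} {j₂ : X →ₗ[K] V} {Z₀ W₀ : Submodule K V}
variable {ρ₂ : stabW F.iso.subtype Z₀ →* F₂.iso} {W₂ : Submodule K X}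
variable {k : ℕ} {c : GL (Fin k) K → ℂ}

/-- (C) `g j₂ = j₂ ρ₂ g` on `W₂` -/
theorem comm_on [FiniteDimensional K V] [FiniteDimensional K X] (h₂ : Cmp F F₂ j₂ Z₀)
    (hρ : ∀ (g : stabW F.iso.subtype Z₀) x, ((g : F.iso) : V ≃ₗ[K] V) (j₂ x) - j₂ ((ρ₂ g : X ≃ₗ[K] X) x) ∈ Z₀)
    (hW : W₀ = W₂.map j₂) (g : stabW F.iso.subtype Z₀) (hg : (g : F.iso) ∈ stabW F.iso.subtype W₀)
    (hg' : ρ₂ g ∈ stabW F₂.iso.subtype W₂) (u : X) (hu : u ∈ W₂) :
    ((g : F.iso) : V ≃ₗ[K] V) (j₂ u) = j₂ ((ρ₂ g : X ≃ₗ[K] X) u) := by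
  have h1 := hρ g u
  have h2 : ((g : F.iso) : V ≃ₗ[K] V) (j₂ u) - j₂ ((ρ₂ g : X ≃ₗ[K] X) u) ∈ W₂.map j₂ := by
    rw [← hW]
    refine W₀.sub_mem (apply_mem hg ?_) ?_
    · rw [hW]; exact ⟨u, hu, rfl⟩
    · rw [hW]; exact ⟨_, apply_mem hg' hu, rfl⟩
  have h3 : ((g : F.iso) : V ≃ₗ[K] V) (j₂ u) - j₂ ((ρ₂ g : X ≃ₗ[K] X) u) ∈ Z₀ ⊓ W₂.map j₂ := ⟨h1, h2⟩
  rw [inf_map_eq_bot h₂ W₂] at h3
  exact sub_eq_zero.1 ((Submodule.mem_bot K).1 h3)

/-- (C) `μ₁ = μ₂` on the common stabiliser -/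
theorem flagTerm_eq [FiniteDimensional K V] [FiniteDimensional K X] (h₂ : Cmp F F₂ j₂ Z₀)
    (hρ : ∀ (g : stabW F.iso.subtype Z₀) x, ((g : F.iso) : V ≃ₗ[K] V) (j₂ x) - j₂ ((ρ₂ g : X ≃ₗ[K] X) x) ∈ Z₀)
    (hc : IsClassFunction _ c) (hW : W₀ = W₂.map j₂) (g : stabW F.iso.subtype Z₀)
    (hg : (g : F.iso) ∈ stabW F.iso.subtype W₀) (hg' : ρ₂ g ∈ stabW F₂.iso.subtype W₂) :
    flagTerm F.iso.subtype c (g : F.iso) W₀ = flagTerm F₂.iso.subtype c (ρ₂ g) W₂ := by
  subst hW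
  have hinj : Function.Injective j₂ := by
    rw [injective_iff_map_eq_zero]
    intro x hx
    refine F₂.nondeg x fun y => ?_
    rw [← h₂.jB, hx, F.B_zero_left]
  let e : W₂ ≃ₗ[K] W₂.map j₂ := Submodule.equivMapOfInjective j₂ hinj W₂
  rw [flagTerm_of F.iso.subtype c hg, flagTerm_of F₂.iso.subtype c hg', ← cl_conj hc e]
  congr 1
  ext w
  obtain ⟨u, rfl⟩ := e.surjective w
  rw [LinearEquiv.trans_apply, LinearEquiv.trans_apply, e.symm_apply_apply]
  exact comm_on h₂ hρ rfl g hg hg' u u.2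

/-- every automorphism of `W₀` is induced by an isometry trivial on `Z₀` -/
theorem exists_both [FiniteDimensional K V] [FiniteDimensional K X] (h₂ : Cmp F F₂ j₂ Z₀) (hW₂ : F₂.TS W₂)
    (hW : W₀ = W₂.map j₂) (a : W₀ ≃ₗ[K] W₀) :
    ∃ g : F.iso, (∀ w : W₀, (g : V ≃ₗ[K] V) w = a w) ∧ ∀ z ∈ Z₀, (g : V ≃ₗ[K] V) z = z := by
  subst hW
  obtain ⟨W', hW', h0⟩ := F₂.exists_opp (k := finrank K W₂) ⟨hW₂, rfl⟩
  have h0' := CForm.opp_symm (F := F₂) rfl hW'.2 h0
  have hts : ∀ U : Submodule K X, F₂.TS U → F.TS (U.map j₂) := by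
    intro U hU
    refine ⟨?_, ?_⟩
    · rintro _ ⟨w, hw, rfl⟩
      exact (h₂.jQ w).trans (hU.1 w hw)
    · rintro _ ⟨w, hw, rfl⟩ _ ⟨w', hw', rfl⟩
      exact (h₂.jB w w').trans (hU.2 w hw w' hw')
  obtain ⟨g, hg1, -, hg2, -⟩ := F.exists_levi (hts W₂ hW₂) (hts W' hW'.1)
    (by
      rintro _ ⟨w, hw, rfl⟩ hB
      have : w ∈ W₂ ⊓ F₂.perp W' := ⟨hw, fun w' hw' => by
        rw [← h₂.jB]; exact hB _ ⟨w', hw', rfl⟩⟩
      rw [h0] at this
      rw [(Submodule.mem_bot K).1 this, map_zero])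
    (by
      rintro _ ⟨w, hw, rfl⟩ hB
      have : w ∈ W' ⊓ F₂.perp W₂ := ⟨hw, fun w' hw' => by
        rw [← h₂.jB]; exact F.B_eq_zero (hB _ ⟨w', hw', rfl⟩)⟩
      rw [h0'] at this
      rw [(Submodule.mem_bot K).1 this, map_zero]) a
  refine ⟨g, hg1, fun z hz => hg2 z ?_ ?_⟩
  · rintro _ ⟨w, -, rfl⟩
    exact F.B_eq_zero (h₂.j1 w z hz)
  · rintro _ ⟨w, -, rfl⟩
    exact F.B_eq_zero (h₂.j1 w z hz)

/-- stabilising two subspaces -/
theorem stab_sup [FiniteDimensional K V] {U₁ U₂ : Submodule K V} {g : F.iso} (h1 : g ∈ stabW F.iso.subtype U₁)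
    (h2 : g ∈ stabW F.iso.subtype U₂) : g ∈ stabW F.iso.subtype (U₁ ⊔ U₂) := by
  change (U₁ ⊔ U₂).map (F.iso.subtype g : V →ₗ[K] V) = U₁ ⊔ U₂
  rw [Submodule.map_sup, show U₁.map (F.iso.subtype g : V →ₗ[K] V) = U₁ from h1,
    show U₂.map (F.iso.subtype g : V →ₗ[K] V) = U₂ from h2]

/-- `hD` of the trace lemma -/
theorem inf_le_inf [FiniteDimensional K V] {Lam : Submodule K V} (hLam : Lam = W₀ ⊔ Z₀) :
    stabW F.iso.subtype W₀ ⊓ stabW F.iso.subtype Z₀ ≤
      (stabW F.iso.subtype W₀ ⊓ stabW F.iso.subtype Lam) ⊓ (stabW F.iso.subtype Z₀ ⊓ stabW F.iso.subtype Lam) := by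
  intro g hg
  have h1 : g ∈ stabW F.iso.subtype Lam := by
    rw [hLam]
    exact stab_sup hg.1 hg.2
  exact ⟨⟨hg.1, h1⟩, hg.2, h1⟩

/-- (C) the common restriction `ν` is irreducible -/
theorem isIrr_nu [FiniteDimensional K V] [FiniteDimensional K X] (h₂ : Cmp F F₂ j₂ Z₀) (hW₂ : F₂.TS W₂)
    (hW : W₀ = W₂.map j₂) (hW₀ : W₀ ∈ F.Om k) (hc : IsIrrCharacter _ c) {Lam : Submodule K V} (hLam : Lam = W₀ ⊔ Z₀) :
    IsIrrCharacter ((stabW F.iso.subtype W₀ ⊓ stabW F.iso.subtype Lam) ⊓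
      (stabW F.iso.subtype Z₀ ⊓ stabW F.iso.subtype Lam) : Subgroup F.iso)
      (fun g => flagTerm F.iso.subtype c (g : F.iso) W₀) := by
  let b : Basis (Fin k) K W₀ := finBasisOfFinrankEq K W₀ hW₀.2
  have hle : ((stabW F.iso.subtype W₀ ⊓ stabW F.iso.subtype Lam) ⊓
      (stabW F.iso.subtype Z₀ ⊓ stabW F.iso.subtype Lam) : Subgroup F.iso) ≤ stabW F.iso.subtype W₀ :=
    inf_le_left.trans inf_le_left
  have e : (fun g : ((stabW F.iso.subtype W₀ ⊓ stabW F.iso.subtype Lam) ⊓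
      (stabW F.iso.subtype Z₀ ⊓ stabW F.iso.subtype Lam) : Subgroup F.iso) =>
      flagTerm F.iso.subtype c (g : F.iso) W₀) = c ∘ ((fW F b).comp (Subgroup.inclusion hle)) := by
    funext g
    exact flagTerm_fW (Core.isIrr_isClassFunction hc) b (Subgroup.inclusion hle g)
  rw [e]
  refine Core.isIrr_comp _ (fun A => ?_) hc
  obtain ⟨a, rfl⟩ := (glE b).surjective A
  obtain ⟨g, hg1, hg2⟩ := exists_both h₂ hW₂ hW a
  have h1 : g ∈ stabW F.iso.subtype W₀ := map_eq_of_le F.iso.subtype fun w hw => by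
    change (g : V ≃ₗ[K] V) w ∈ W₀
    rw [hg1 ⟨w, hw⟩]
    exact (a ⟨w, hw⟩).2
  have h2 : g ∈ stabW F.iso.subtype Z₀ := map_eq_of_le F.iso.subtype fun w hw => by
    change (g : V ≃ₗ[K] V) w ∈ Z₀
    rw [hg2 w hw]
    exact hw
  refine ⟨⟨g, inf_le_inf hLam ⟨h1, h2⟩⟩, ?_⟩
  change glE b (res (F.iso.subtype g) W₀ _) = glE b a
  congr 1
  ext w
  exact hg1 w

/-- (C) `hν2` of the trace lemma -/
theorem mu_eq_nu [FiniteDimensional K V] [FiniteDimensional K X] (h₂ : Cmp F F₂ j₂ Z₀)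
    (hρ : ∀ (g : stabW F.iso.subtype Z₀) x, ((g : F.iso) : V ≃ₗ[K] V) (j₂ x) - j₂ ((ρ₂ g : X ≃ₗ[K] X) x) ∈ Z₀)
    (hc : IsClassFunction _ c) (hW : W₀ = W₂.map j₂) {Lam : Submodule K V} (hLam : Lam = Z₀ ⊔ W₀)
    (d : ((stabW F.iso.subtype W₀ ⊓ stabW F.iso.subtype Lam) ⊓
      (stabW F.iso.subtype Z₀ ⊓ stabW F.iso.subtype Lam) : Subgroup F.iso)) :
    flagTerm F₂.iso.subtype c (ρ₂ (Subgroup.inclusion (inf_le_right.trans inf_le_left) d)) W₂ =
      flagTerm F.iso.subtype c (d : F.iso) W₀ := by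
  refine (flagTerm_eq h₂ hρ hc hW _ d.2.1.1 ?_).symm
  rw [← mem_stab_iff h₂ hρ, ← hW, ← hLam]
  exact d.2.2.2

end

end Cfsg.Agent.H160.HT.Mu
end

-- part: H505/HT/Inner
section
set_option linter.all false
open scoped Cfsg.Agent.FastGrp

/-!
# S4933: the row of a group without outer automorphisms (helper505)

`row_of_inner` : all automorphisms of `S` are inner, for every `p`-modular ideal there is `χ` in the principal block with
`vd p χ = 1`: `Row p S`.
-/

set_option autoImplicit false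

open Subgroup

namespace Cfsg.Agent.H505.HT

open Cfsg Cfsg.Agent.H316.HT Cfsg.Agent.Characters.Core

universe u v

/-- a nonlinear irreducible character is not constant -/
theorem exists_ne {G : Type u} [Group G] [Finite G] {χ : G → ℂ} (hχ : IsIrrCharacter G χ) (hd : charDegree χ ≠ 1) :
    ∃ g, χ g ≠ χ 1 := by
  classical
  by_contra hcon
  push Not at hcon
  have := Fintype.ofFinite G
  have h1 := classInner_irr_self hχ
  have h2 := Blocks.Basic.irr_one_eq_charDegree hχ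
  have h3 : χ = fun _ => (charDegree χ : ℂ) := funext fun g => by rw [hcon g, h2]
  have hc : (Nat.card G : ℂ) ≠ 0 := by exact_mod_cast (Nat.card_pos (α := G)).ne'
  have h4 : classInner χ χ = (charDegree χ : ℂ) * (charDegree χ : ℂ) := by
    conv_lhs => rw [h3]
    rw [classInner_def]
    simp only [Complex.conj_natCast, Finset.sum_const, Finset.card_univ, nsmul_eq_mul]
    rw [← Nat.card_eq_fintype_card]
    field_simp
  rw [h4] at h1
  have h5 : charDegree χ * charDegree χ = 1 := by exact_mod_cast h1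
  exact hd (Nat.eq_one_of_mul_eq_one_right h5)

/-- transport of the character -/
theorem exists_comp {p k : ℕ} {S : Type u} [Group S] [Finite S] {T : Type v} [Group T] (e : S ≃* T) {M : Ideal AlgInt}
    (h : ∃ χ : IrrCharacter T, χ ∈ principalBlock M T ∧ vd p (χ : T → ℂ) = k) :
    ∃ χ : IrrCharacter S, χ ∈ principalBlock M S ∧ vd p (χ : S → ℂ) = k := by
  obtain ⟨χ, h1, h2⟩ := h
  have hdeg : charDegree (fun x : S => (χ : T → ℂ) (e x)) = charDegree (χ : T → ℂ) := by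
    rw [Blocks.Basic.charDegree_def, Blocks.Basic.charDegree_def, map_one]
  refine ⟨_, H493.RatB.mem_principalBlock_comp e h1, ?_⟩
  rw [← h2]
  exact congrArg (fun n : ℕ => n.factorization p) hdeg

/-- **the row of a group without outer automorphisms** -/
theorem row_of_inner {p : ℕ} {S : Type v} [Group S] (hin : ∀ α : S ≃* S, ∃ s : S, ∀ x : S, α x = s * x * s⁻¹)
    (h : ∀ M : Ideal AlgInt, IsPModular p M → ∃ χ : IrrCharacter S, χ ∈ principalBlock M S ∧ vd p (χ : S → ℂ) = 1) :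
    Row p S := by
  intro A _ _ N _ hN hC M hM P a ha _hcd
  obtain ⟨e⟩ := hN
  have htop : N = ⊤ := by
    rw [eq_top_iff]
    rintro g -
    obtain ⟨s, hs⟩ := hin ((e.symm.trans (MulAut.conjNormal g)).trans e)
    have h1 : ∀ x : N, g * x * g⁻¹ = (e.symm s : A) * x * (e.symm s : A)⁻¹ := by
      intro x
      have h2 := hs (e x)
      have h3 : e (MulAut.conjNormal g x) = s * e x * s⁻¹ := by
        have h4 : ((e.symm.trans (MulAut.conjNormal g)).trans e) (e x) = e (MulAut.conjNormal g x) := by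
          show e (MulAut.conjNormal g (e.symm (e x))) = _
          rw [MulEquiv.symm_apply_apply]
        rw [← h4, h2]
      have h5 : MulAut.conjNormal g x = e.symm s * x * (e.symm s)⁻¹ := by
        apply e.injective
        rw [h3, map_mul, map_mul, map_inv, MulEquiv.apply_symm_apply]
      have h6 := congrArg (fun y : N => (y : A)) h5
      rw [MulAut.conjNormal_apply] at h6
      exact h6
    have h7 : (e.symm s : A)⁻¹ * g ∈ centralizer (N : Set A) := by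
      rw [mem_centralizer_iff]
      intro x hx
      have h8 := h1 ⟨x, hx⟩
      have h8' : g * x * g⁻¹ = (e.symm s : A) * x * (e.symm s : A)⁻¹ := h8
      have h9 : (e.symm s : A)⁻¹ * g * x = x * ((e.symm s : A)⁻¹ * g) := by
        have e1 : (e.symm s : A)⁻¹ * g * x = (e.symm s : A)⁻¹ * (g * x * g⁻¹) * g := by group
        rw [e1, h8']
        group
      exact h9.symm
    rw [hC, Subgroup.mem_bot, inv_mul_eq_one] at h7
    rw [← h7]
    exact (e.symm s).2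
  subst htop
  obtain ⟨χ, h1, h2⟩ := exists_comp (Subgroup.topEquiv.symm.trans e) (h M hM)
  refine ⟨χ, h1, ?_, by rw [h2]; norm_num, by rw [h2]; exact ha⟩
  have hd : charDegree (χ : A → ℂ) ≠ 1 := by
    intro h3
    unfold vd at h2
    rw [h3, Nat.factorization_one] at h2
    exact absurd h2 (by simp)
  obtain ⟨g, hg⟩ := exists_ne χ.2 hd
  exact ⟨g, Subgroup.mem_top g, hg⟩

end Cfsg.Agent.H505.HT
end

-- part: H505/HT/RuThree
section
set_option linter.all false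
open scoped Cfsg.Agent.FastGrp

/-!
# S4933, the row `(Ru, 3)`: the character of degree 76125 (helper505)

The table of the character of degree `76125 = 3 * 5 ^ 3 * 7 * 29` is an integral combination of the generalized characters
of helper300 and helper806; the sum of its values at the 3-regular elements is not zero, so it is in the principal 3-block.
-/

set_option autoImplicit false
set_option maxRecDepth 100000

open Cfsg Cfsg.Agent

namespace Cfsg.Agent.H505.HT.Ru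

open Cfsg.Agent.SporadicB.RuOrder Cfsg.Agent.H300.Cls Cfsg.Agent.H300.Ru Cfsg.Agent.H316.HT
open Cfsg.Agent.Blocks.Blau (regPart regPart_of_dvd regPart_of_not_dvd)

universe u

/-- the table of the character of degree 76125 -/
def tu : List ℤ := [76125, 105, -35, -15, 5, 1, 5, 25, 0, 0, 1, 0, -1, 1, -1, 0, 0, -1, 1, -3, 0, 0, 1, 0, 0, -1, 1, 0]

theorem gc_tu : GC fam tu := GC.lin fam_lt [
    (76, v0), (-107, v1), (-5, v2), (-46, v3), (-19, v4), (-99, v5), (-7, v6), (2, v7), (-3, v8),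
    (-9, v10), (8, v11), (-6, v14), (151, v15), (-129, v16), (72, v17), (42, v18), (-86, v19),
    (-113, v20), (19, v21), (4, v22), (24, v23), (53, v24), (-3, v25), (1, v26), (-14, v28),
    (-17, v30), (-12, v31), (-6, v32), (3, v33), (-3, v34), (-29, v35), (-22, v36), (-20, v37),
    (-11, v38), (-1, H806.SB.Ru.th), (-73, th1), (-62, th2), (76, H806.SB.Ru.w3)]
    (List.forall_mem_cons.2 ⟨gc0, List.forall_mem_cons.2 ⟨gc1, List.forall_mem_cons.2 ⟨gc2, List.forall_mem_cons.2 ⟨gc3,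
    List.forall_mem_cons.2 ⟨gc4, List.forall_mem_cons.2 ⟨gc5, List.forall_mem_cons.2 ⟨gc6, List.forall_mem_cons.2
    ⟨gc7, List.forall_mem_cons.2 ⟨gc8, List.forall_mem_cons.2 ⟨gc10, List.forall_mem_cons.2 ⟨gc11,
    List.forall_mem_cons.2 ⟨gc14, List.forall_mem_cons.2 ⟨gc15, List.forall_mem_cons.2 ⟨gc16,
    List.forall_mem_cons.2 ⟨gc17, List.forall_mem_cons.2 ⟨gc18, List.forall_mem_cons.2 ⟨gc19,
    List.forall_mem_cons.2 ⟨gc20, List.forall_mem_cons.2 ⟨gc21, List.forall_mem_cons.2 ⟨gc22,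
    List.forall_mem_cons.2 ⟨gc23, List.forall_mem_cons.2 ⟨gc24, List.forall_mem_cons.2 ⟨gc25,
    List.forall_mem_cons.2 ⟨gc26, List.forall_mem_cons.2 ⟨gc28, List.forall_mem_cons.2 ⟨gc30,
    List.forall_mem_cons.2 ⟨gc31, List.forall_mem_cons.2 ⟨gc32, List.forall_mem_cons.2 ⟨gc33,
    List.forall_mem_cons.2 ⟨gc34, List.forall_mem_cons.2 ⟨gc35, List.forall_mem_cons.2 ⟨gc36,
    List.forall_mem_cons.2 ⟨gc37, List.forall_mem_cons.2 ⟨gc38, List.forall_mem_cons.2 ⟨H806.SB.Ru.gc_th,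
    List.forall_mem_cons.2 ⟨gc_th1, List.forall_mem_cons.2 ⟨gc_th2, List.forall_mem_cons.2 ⟨H806.SB.Ru.gw3, fun _ h =>
    absurd h List.not_mem_nil⟩⟩⟩⟩⟩⟩⟩⟩⟩⟩⟩⟩⟩⟩⟩⟩⟩⟩⟩⟩⟩⟩⟩⟩⟩⟩⟩⟩⟩⟩⟩⟩⟩⟩⟩⟩⟩⟩) tu (by decide +kernel)

theorem irr_tu : IsIrrCharacter H (tv fam tu) := irr_of gc_tu (by decide +kernel) (by decide +kernel)

theorem deg_tu : charDegree (tv fam tu) = 76125 := by
  refine Cfsg.Agent.Blocks.Basic.charDegree_of_eq ?_
  rw [tv, fam_one]
  norm_num [tu]

/-- sums over the group of functions of the family -/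
theorem sum_fam [Fintype H] (F : ℕ → ℤ) : ∑ g : H, F (fam g) = ∑ i ∈ Finset.range 28, (H806.SB.Ru.sz.getD i 0 : ℤ) * F i := by
  classical
  rw [← Finset.sum_fiberwise_of_maps_to (s := Finset.univ) (t := Finset.range 28) (g := fam)
    (fun g _ => Finset.mem_range.2 (fam_lt g))]
  refine Finset.sum_congr rfl fun i _ => ?_
  have h1 : ∀ g ∈ Finset.univ.filter (fun g : H => fam g = i), F (fam g) = F i := by
    intro g hg
    rw [(Finset.mem_filter.1 hg).2]
  rw [Finset.sum_congr rfl h1, Finset.sum_const, nsmul_eq_mul, H806.SB.Ru.fam_card]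

/-- the 3-regular part of the table -/
def rg (i : ℕ) : ℤ := if 3 ∣ (fm i).n then 0 else tu.getD i 0

theorem sum_rg : ∑ i ∈ Finset.range 28, (H806.SB.Ru.sz.getD i 0 : ℤ) * rg i = 16214016000 := by decide +kernel

theorem sum_reg [Fintype H] : ∑ g : H, regPart 3 (tv fam tu) g = 16214016000 := by
  have h1 : ∀ g : H, regPart 3 (tv fam tu) g = ((rg (fam g) : ℤ) : ℂ) := by
    intro g
    by_cases h : 3 ∣ orderOf g
    · rw [regPart_of_dvd h]
      rw [orderOf_fam] at h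
      rw [rg, if_pos h, Int.cast_zero]
    · rw [regPart_of_not_dvd h]
      rw [orderOf_fam] at h
      rw [rg, if_neg h]
      rfl
  rw [Finset.sum_congr rfl fun g _ => h1 g, ← Int.cast_sum, sum_fam rg, sum_rg]
  norm_num

/-- the character of degree 76125 is in the principal 3-block -/
theorem exists_H {M : Ideal AlgInt} (hM : IsPModular 3 M) :
    ∃ χ : IrrCharacter H, χ ∈ principalBlock M H ∧ charDegree (χ : H → ℂ) = 76125 := by
  have : Finite H := Nat.finite_of_card_ne_zero (by rw [card_H]; norm_num)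
  have := Fintype.ofFinite H
  have h3 : Fact (Nat.Prime 3) := ⟨Nat.prime_three⟩
  refine ⟨⟨_, irr_tu⟩, (H893.Sd.mem_iff hM _).2 ?_, deg_tu⟩
  show ∑ g : H, regPart 3 (tv fam tu) g ≠ 0
  rw [sum_reg]
  norm_num

theorem exists_ru {S : Type u} [Group S] (h : Spor.IsoRu S) {M : Ideal AlgInt} (hM : IsPModular 3 M) :
    ∃ χ : IrrCharacter S, χ ∈ principalBlock M S ∧ vd 3 (χ : S → ℂ) = 1 := by
  obtain ⟨e⟩ := h
  have : Finite H := Nat.finite_of_card_ne_zero (by rw [card_H]; norm_num)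
  let f : S ≃* H := e.trans RuLat.Main.equiv
  have : Finite S := Finite.of_equiv H f.symm.toEquiv
  refine exists_comp f ?_
  obtain ⟨χ, h1, h2⟩ := exists_H hM
  refine ⟨χ, h1, ?_⟩
  have h3 : (25375 : ℕ).factorization 3 = 0 := Nat.factorization_eq_zero_of_not_dvd (by norm_num)
  rw [vd, h2, show (76125 : ℕ) = 3 * 25375 by norm_num, Nat.factorization_mul (by norm_num) (by norm_num),
    Finsupp.add_apply, h3, Nat.prime_three.factorization_self]

/-- All automorphisms of `Ru` are inner. -/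
theorem inner_ru {S : Type u} [Group S] (h : Spor.IsoRu S) (α : S ≃* S) : ∃ s : S, ∀ x : S, α x = s * x * s⁻¹ := by
  obtain ⟨e⟩ := h
  let f : S ≃* H := e.trans RuLat.Main.equiv
  obtain ⟨g, hg⟩ := OddHalf.Table.OutRu.inner ((f.symm.trans α).trans f)
  refine ⟨f.symm g, fun x => ?_⟩
  apply f.injective
  have h1 := DFunLike.congr_fun hg (f x)
  have h2 : ((f.symm.trans α).trans f) (f x) = f (α x) := by
    show f (α (f.symm (f x))) = _
    rw [MulEquiv.symm_apply_apply]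
  rw [← h2, h1, map_mul, map_mul, map_inv, MulEquiv.apply_symm_apply]
  rfl

/-- **Board box s.Ru.3.** -/
theorem row_ru {S : Type u} [Group S] (h : Spor.IsoRu S) : Row 3 S :=
  row_of_inner (inner_ru h) fun _ hM => exists_ru h hM

end Cfsg.Agent.H505.HT.Ru

private theorem dce_5fc949c15ae7 : _root_.True := by
  try have : _root_.True := by simp only [_root_.Cfsg.Agent.H505.HT.Ru.rg.eq_1]
  try have : _root_.True := by simp only [_root_.Cfsg.Agent.H316.HT.vd.eq_1]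
  try have : _root_.True := by simp only [_root_.Cfsg.Agent.H505.HT.Ru.tu.eq_1]
  exact _root_.True.intro
end

-- part: H577/HT/One
section
set_option linter.all false
open scoped Cfsg.Agent.FastGrp

/-!
# S4933: the type of the identity

* `mcol_one`, `mcol_one_ne` : the columns of the identity matrix;
* `typ_one_of` : a type function given by `mcol` has the value `tyOne Q n` at `1`;
* `typ_one_G`, `typ_one_U` : for `GL (Fin n) F` and `GU n F q`.
-/

set_option autoImplicit false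

open Module

namespace Cfsg.Agent.H577.HT

open Cfsg Cfsg.Agent.H615.GU Cfsg.Agent.H794.EM

section cols

variable {F V : Type*} [Field F] [AddCommGroup V] [Module F V] [Module.Finite F V]

/-- the columns of the zero map -/
theorem colOf_zero : colOf (0 : V →ₗ[F] V) = cn (finrank F V) := by
  ext i
  by_cases hi : i = 0
  · subst hi
    rw [cn_zero_apply, colOf_apply, pow_zero, LinearMap.ker_zero, top_inf_eq]
    have h : LinearMap.range (1 : V →ₗ[F] V) = ⊤ := LinearMap.range_id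
    rw [h, finrank_top]
  · rw [cn_apply hi, colOf_apply, zero_pow hi, LinearMap.range_zero, inf_bot_eq, finrank_bot]

/-- the columns of an injective map -/
theorem colOf_of_ker {T : V →ₗ[F] V} (h : LinearMap.ker T = ⊥) : colOf T = 0 := by
  ext i
  rw [colOf_apply, h, bot_inf_eq, finrank_bot]
  rfl

end cols

section mats

variable {F K : Type*} [Field F] [Field K] [Algebra F K] {n : ℕ}

theorem mcol_one : mcol (1 : Matrix (Fin n) (Fin n) F) (1 : K) = cn n := by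
  rw [mcol, Matrix.map_one _ (map_zero _) (map_one _), map_one, sub_self, map_zero, colOf_zero]
  rw [finrank_fin_fun]

theorem mcol_one_ne {x : K} (hx : x ≠ 1) : mcol (1 : Matrix (Fin n) (Fin n) F) x = 0 := by
  refine colOf_of_ker ?_
  rw [Matrix.map_one _ (map_zero _) (map_one _), LinearMap.ker_eq_bot']
  intro v hv
  have h1 : (1 - x) • v = 0 := by
    rw [← hv, map_sub, LinearMap.sub_apply, Matrix.toLin'_one, LinearMap.id_apply, sub_smul, one_smul,
      Matrix.toLin'_apply, Matrix.scalar_apply, ← Matrix.smul_one_eq_diagonal, Matrix.smul_mulVec, Matrix.one_mulVec]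
  exact (smul_eq_zero.1 h1).resolve_left (sub_ne_zero.2 hx.symm)

/-- **the type of the identity** -/
theorem typ_one_of [Finite K] {Q : ℤ} (hQ : IsCoprime Q (Nat.card Kˣ : ℤ)) {X : Type*} [Group X]
    (T : TypeData (dOrb K Q) Q X n) {A : X → Matrix (Fin n) (Fin n) F} (hA : A 1 = 1)
    (hT : ∀ (g : X) (x : Kˣ), T.typ g (Quotient.mk (orbSetoid K Q) x) = mcol (A g) (x : K)) :
    T.typ 1 = tyOne Q n := by
  classical
  ext1 o
  induction o using Quotient.inductionOn with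
  | h x =>
    rw [hT, hA, tyOne, Finsupp.single_apply]
    by_cases hx : x = 1
    · subst hx
      have h0 : o1 K Q = Quotient.mk (orbSetoid K Q) 1 := rfl
      rw [if_pos h0, Units.val_one, mcol_one]
    · have h0 : o1 K Q ≠ Quotient.mk (orbSetoid K Q) x := fun h => hx (mk_eq_o1 Q hQ h.symm)
      rw [if_neg h0, mcol_one_ne fun h => hx (Units.ext h)]

theorem coprime_unit {Q : ℤ} {M : ℕ} (hc : Nat.card Kˣ = M) (h : IsUnit (Q : ZMod M)) :
    IsCoprime Q (Nat.card Kˣ : ℤ) := by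
  rw [hc]
  obtain ⟨b, hb⟩ := h.exists_right_inv
  obtain ⟨z, rfl⟩ := ZMod.intCast_surjective b
  have h1 : ((Q * z - 1 : ℤ) : ZMod M) = 0 := by
    push_cast
    rw [hb, sub_self]
  rw [ZMod.intCast_zmod_eq_zero_iff_dvd] at h1
  obtain ⟨r, hr⟩ := h1
  exact ⟨z, -r, by linarith [mul_comm Q z, mul_comm (M : ℤ) r]⟩

/-- **the type of the identity of `GL (Fin n) F`** -/
theorem typ_one_G {Q : ℤ} {M : ℕ} {θ : K →*₀ ℂ} {N : ℕ} (ctx : CtxQ θ Q M N)
    (T : TypeData (dOrb K Q) Q (GL (Fin n) F) n)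
    (hT : ∀ (A : GL (Fin n) F) (x : Kˣ), T.typ A (Quotient.mk (orbSetoid K Q) x) = mcol A.1 (x : K)) :
    T.typ 1 = tyOne Q n :=
  have := ctx.finK
  typ_one_of (coprime_unit ctx.card ctx.unit) T (A := fun A : GL (Fin n) F => A.1) rfl hT

/-- **the type of the identity of `GU n F q`** -/
theorem typ_one_U {q : ℕ} {M : ℕ} {θ : K →*₀ ℂ} {N : ℕ} (ctx : CtxQ θ (-(q : ℤ)) M N)
    (T : TypeData (dOrb K (-(q : ℤ))) (-(q : ℤ)) (Cfsg.GU n F q) n) (hT : IsTypU q n T) :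
    T.typ 1 = tyOne (-(q : ℤ)) n :=
  have := ctx.finK
  typ_one_of (coprime_unit ctx.card ctx.unit) T
    (A := fun A : Cfsg.GU n F q => ((A : GL (Fin n) F) : Matrix (Fin n) (Fin n) F)) rfl hT

end mats

end Cfsg.Agent.H577.HT

private theorem dce_3ee642950bcb : _root_.True := by
  try have : _root_.True := by simp only [_root_.Cfsg.Agent.H615.GU.mcol.eq_1]
  exact _root_.True.intro
end
end
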